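import Groth.Agent.MultMap.Map

/-!
# The multiplication map is finite and surjective, over any base
-/

set_option autoImplicit false
universe u
open CategoryTheory CategoryTheory.Limits AlgebraicGeometry HomogeneousLocalization

namespace Groth.Agent.MultMap

open ProjPoint ProjPoint.Segre

attribute [local instance 2000] Segre.chartAlgebra
attribute [-instance] ULift.module

theorem isProper_toSpec (n : ℕ) (R : Type u) [CommRing R] : IsProper (CohB1.ProjSpace.toSpec n R) := by
  have h0 : (algebraMap (CohB1.polyGrading n R 0) (MvPolynomial (Fin (n + 1)) R)).comp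
      (algebraMap R (CohB1.polyGrading n R 0)) = algebraMap R (MvPolynomial (Fin (n + 1)) R) := rfl
  have : Algebra.FiniteType (CohB1.polyGrading n R 0) (MvPolynomial (Fin (n + 1)) R) :=
    RingHom.finiteType_algebraMap.mp (RingHom.FiniteType.of_comp_finiteType
      (f := algebraMap R (CohB1.polyGrading n R 0))
      (by rw [h0]; exact RingHom.finiteType_algebraMap.mpr inferInstance))
  have hs : Function.Surjective (algebraMap R (CohB1.polyGrading n R 0)) := by
    rintro ⟨f, hf⟩
    refine ⟨MvPolynomial.coeff 0 f, Subtype.ext ?_⟩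
    exact (MvPolynomial.totalDegree_eq_zero_iff_eq_C.mp
      (Nat.le_zero.mp (MvPolynomial.IsHomogeneous.totalDegree_le hf))).symm
  have : IsClosedImmersion (Spec.map (CommRingCat.ofHom (algebraMap R (CohB1.polyGrading n R 0)))) :=
    IsClosedImmersion.spec_of_surjective _ hs
  unfold CohB1.ProjSpace.toSpec
  exact MorphismProperty.comp_mem @IsProper _ _
    (inferInstanceAs (IsProper (Proj.toSpecZero (CohB1.polyGrading n R)))) inferInstance

variable (m : ℕ)

theorem iSup_D (n : ℕ) : ⨆ c, Proj.basicOpen (CohB1.polyGrading n Z.{u}) (MvPolynomial.X c) = ⊤ :=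
  iSup_basicOpen_X

theorem isAffineHom_mult : IsAffineHom (mult.{u} m) := by
  rw [IsZariskiLocalAtTarget.iff_of_iSup_eq_top (P := @IsAffineHom) _ (iSup_D.{u} (m + 1))]
  intro c
  have h1 : IsAffineOpen (mult.{u} m ⁻¹ᵁ Proj.basicOpen (CohB1.polyGrading (m + 1) Z.{u}) (MvPolynomial.X c)) := by
    rw [mult_preimage]
    exact (Proj.isAffineOpen_basicOpen _ _ (Lform_mem m c) one_pos).preimage (psi.{u} 1 m)
  have h2 : IsAffineOpen (Proj.basicOpen (CohB1.polyGrading (m + 1) Z.{u}) (MvPolynomial.X c)) :=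
    Proj.isAffineOpen_basicOpen _ _ (X_mem c) one_pos
  have : IsAffine _ := h1
  have : IsAffine _ := h2
  exact isAffineHom_of_isAffine _

theorem isFinite_mult : IsFinite (mult.{u} m) := by
  have : IsProper (str.{u} 1) := isProper_toSpec 1 _
  have : IsProper (str.{u} m) := isProper_toSpec m _
  have : IsProper (str.{u} (m + 1)) := isProper_toSpec (m + 1) _
  have hc : IsProper (mult.{u} m ≫ str.{u} (m + 1)) := by
    rw [toZ_ext (mult.{u} m ≫ str.{u} (m + 1)) (pullback.fst _ _ ≫ str.{u} 1)]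
    infer_instance
  have : IsProper (mult.{u} m) := IsProper.of_comp (mult.{u} m) (str.{u} (m + 1))
  exact IsFinite.iff_isProper_and_isAffineHom.mpr ⟨inferInstance, isAffineHom_mult m⟩

theorem surjective_mult : Surjective (mult.{u} m) := by
  refine ⟨fun z => ?_⟩
  obtain ⟨c, hc⟩ := TopologicalSpace.Opens.mem_iSup.mp ((iSup_D.{u} (m + 1)).ge (trivial : z ∈ ⊤))
  rw [← Proj.opensRange_awayι _ _ (X_mem c) one_pos] at hc
  obtain ⟨y, rfl⟩ := hc
  let 𝔭 : Ideal (Away (CohB1.polyGrading (m + 1) Z.{u}) (MvPolynomial.X c)) := y.asIdeal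
  have : 𝔭.IsPrime := y.isPrime
  let κ := FractionRing ((Away (CohB1.polyGrading (m + 1) Z.{u}) (MvPolynomial.X c)) ⧸ 𝔭)
  let K := AlgebraicClosure κ
  let a : Away (CohB1.polyGrading (m + 1) Z.{u}) (MvPolynomial.X c) →+* K :=
    ((algebraMap κ K).comp (algebraMap _ κ)).comp (Ideal.Quotient.mk 𝔭)
  have hy : ∀ s : Spec (CommRingCat.of K), Spec.map (CommRingCat.ofHom a) s = y := fun s => by
    refine PrimeSpectrum.ext ?_
    show Ideal.comap a s.asIdeal = y.asIdeal
    rw [show s.asIdeal = ⊥ from (Ideal.eq_bot_or_top _).resolve_right s.isPrime.ne_top]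
    refine Ideal.ext fun x => ?_
    rw [Ideal.mem_comap, Ideal.mem_bot]
    show algebraMap κ K (algebraMap _ κ (Ideal.Quotient.mk 𝔭 x)) = 0 ↔ x ∈ 𝔭
    rw [map_eq_zero_iff _ (algebraMap κ K).injective, map_eq_zero_iff _ (IsFractionRing.injective _ κ),
      Ideal.Quotient.eq_zero_iff_mem]
  obtain ⟨α, β, ⟨i, hi⟩, hαβ⟩ := exists_mulVec_eq K (fun k => a (coord c k))
  obtain ⟨j, hj⟩ : ∃ j, β j ≠ 0 := by
    by_contra! h
    refine one_ne_zero (α := K) ?_
    have := mulVec_smul 1 0 α β c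
    simp only [one_mul, zero_mul] at this
    rw [← show (fun k => β k) = fun _ => (0 : K) from funext h, hαβ c, coord_self, map_one] at this
    exact this
  let α' : Fin 2 → K := fun k => (α i)⁻¹ * α k
  let β' : Fin (m + 1) → K := fun k => (β j)⁻¹ * β k
  have hαi : α' i = 1 := inv_mul_cancel₀ hi
  have hβj : β' j = 1 := inv_mul_cancel₀ hj
  let u₁ := evalAway (zmap.{u} K) α' (MvPolynomial.X i) (isUnit_eval_X (hαi ▸ isUnit_one))
  let u₂ := evalAway (zmap.{u} K) β' (MvPolynomial.X j) (isUnit_eval_X (hβj ▸ isUnit_one))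
  let _ : Algebra Z.{u} K := (zmap.{u} K).toAlgebra
  let U : T.{u} 1 m (i, j) →+* K := (Algebra.TensorProduct.productMap
    ({ u₁ with commutes' := fun x => RingHom.congr_fun (hom_ext_Z (u₁.comp (chartBase i)) (zmap K)) x } :
      Chart.{u} 1 i →ₐ[Z.{u}] K)
    ({ u₂ with commutes' := fun x => RingHom.congr_fun (hom_ext_Z (u₂.comp (chartBase j)) (zmap K)) x } :
      Chart.{u} m j →ₐ[Z.{u}] K)).toRingHom
  have hUF : ∀ k, U (F m (i, j) k) = (α i)⁻¹ * (β j)⁻¹ * a (coord c k) := fun k => by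
    rw [F, map_mulVec, ← hαβ k, ← mulVec_smul]
    congr 1 <;> funext l
    · refine Eq.trans ?_ (ProjUniv.evalAway_coord (zmap.{u} K) α' i l (isUnit_eval_X (hαi ▸ isUnit_one)) hαi)
      exact (Algebra.TensorProduct.productMap_apply_tmul _ _ _ _).trans (by simp; rfl)
    · refine Eq.trans ?_ (ProjUniv.evalAway_coord (zmap.{u} K) β' j l (isUnit_eval_X (hβj ▸ isUnit_one)) hβj)
      exact (Algebra.TensorProduct.productMap_apply_tmul _ _ _ _).trans (by simp; rfl)
  have hU : IsUnit (U (F m (i, j) c)) := by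
    rw [hUF, coord_self, map_one, mul_one]
    exact (mul_ne_zero (inv_ne_zero hi) (inv_ne_zero hj)).isUnit
  let h := IsLocalization.Away.lift (S := Localization.Away (F m (i, j) c)) (F m (i, j) c) hU
  let s : Spec (CommRingCat.of K) := IsLocalRing.closedPoint K
  refine ⟨(cov.{u} m).f ((i, j), c) (Spec.map (CommRingCat.ofHom h) s), ?_⟩
  refine Eq.trans ?_ (congrArg (ι (m + 1) c) (hy s))
  refine congrArg (fun f : Spec (CommRingCat.of K) ⟶ P.{u} (m + 1) => f s)
    (?_ : Spec.map (CommRingCat.ofHom h) ≫ (cov.{u} m).f ((i, j), c) ≫ mult m =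
      Spec.map (CommRingCat.ofHom a) ≫ ι (m + 1) c)
  refine (congrArg (Spec.map (CommRingCat.ofHom h) ≫ ·) (cov_mult m ((i, j), c))).trans ?_
  rw [piece, SpecMap_point, SpecMap_awayι_eq_point,
    point_congr (hom_ext_Z (h.comp (zmap _)) (a.comp (chartBase c))) rfl]
  refine point_eq (a.comp (chartBase c)) (c := (α i)⁻¹ * (β j)⁻¹)
    (mul_ne_zero (inv_ne_zero hi) (inv_ne_zero hj)).isUnit (fun k => ?_) _ _ _
    ((IsLocalization.Away.algebraMap_isUnit (F m (i, j) c)).map h)
  exact (IsLocalization.Away.lift_eq (F m (i, j) c) hU (F m (i, j) k)).trans (hUF k)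

/-- Base change of a morphism property along a base. -/
lemma exists_baseChange {W : MorphismProperty Scheme.{u}} [W.IsStableUnderBaseChange]
    {P Q R S B : Scheme.{u}} (hB : ∀ {X : Scheme.{u}} (f g : X ⟶ B), f = g)
    (sP : P ⟶ B) (sQ : Q ⟶ B) (sR : R ⟶ B) (sS : S ⟶ B) (ψ : pullback sP sQ ⟶ R) (hψ : W ψ) :
    ∃ φ : pullback (pullback.snd sP sS) (pullback.snd sQ sS) ⟶ pullback sR sS,
      W φ ∧ φ ≫ pullback.snd sR sS =
        pullback.fst (pullback.snd sP sS) (pullback.snd sQ sS) ≫ pullback.snd sP sS := by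
  let Φ : pullback (pullback.snd sP sS) (pullback.snd sQ sS) ⟶ pullback sP sQ :=
    pullback.lift (pullback.fst _ _ ≫ pullback.fst _ _) (pullback.snd _ _ ≫ pullback.fst _ _)
      (hB _ _)
  let φ : pullback (pullback.snd sP sS) (pullback.snd sQ sS) ⟶ pullback sR sS :=
    pullback.lift (Φ ≫ ψ) (pullback.fst _ _ ≫ pullback.snd sP sS) (hB _ _)
  have Φf : Φ ≫ pullback.fst sP sQ =
      pullback.fst (pullback.snd sP sS) (pullback.snd sQ sS) ≫ pullback.fst sP sS :=
    pullback.lift_fst _ _ _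
  have Φs : Φ ≫ pullback.snd sP sQ =
      pullback.snd (pullback.snd sP sS) (pullback.snd sQ sS) ≫ pullback.fst sQ sS :=
    pullback.lift_snd _ _ _
  have φs : φ ≫ pullback.snd sR sS =
      pullback.fst (pullback.snd sP sS) (pullback.snd sQ sS) ≫ pullback.snd sP sS :=
    pullback.lift_snd _ _ _
  have φf : φ ≫ pullback.fst sR sS = Φ ≫ ψ := pullback.lift_fst _ _ _
  clear_value Φ φ
  refine ⟨φ, ?_, φs⟩
  let L : ∀ s : PullbackCone (ψ ≫ sR) sS,
      s.pt ⟶ pullback (pullback.snd sP sS) (pullback.snd sQ sS) := fun s ↦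
    pullback.lift (pullback.lift (s.fst ≫ pullback.fst _ _) s.snd (hB _ _))
      (pullback.lift (s.fst ≫ pullback.snd _ _) s.snd (hB _ _))
      ((pullback.lift_snd _ _ _).trans (pullback.lift_snd _ _ _).symm)
  have Lff : ∀ s, L s ≫ pullback.fst _ _ ≫ pullback.fst sP sS = s.fst ≫ pullback.fst sP sQ := by
    intro s
    rw [← Category.assoc]
    exact (congrArg (· ≫ pullback.fst sP sS) (pullback.lift_fst _ _ _)).trans
      (pullback.lift_fst _ _ _)
  have Lfs : ∀ s, L s ≫ pullback.fst _ _ ≫ pullback.snd sP sS = s.snd := by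
    intro s
    rw [← Category.assoc]
    exact (congrArg (· ≫ pullback.snd sP sS) (pullback.lift_fst _ _ _)).trans
      (pullback.lift_snd _ _ _)
  have Lsf : ∀ s, L s ≫ pullback.snd _ _ ≫ pullback.fst sQ sS = s.fst ≫ pullback.snd sP sQ := by
    intro s
    rw [← Category.assoc]
    exact (congrArg (· ≫ pullback.fst sQ sS) (pullback.lift_snd _ _ _)).trans
      (pullback.lift_fst _ _ _)
  clear_value L
  have hbig : IsPullback Φ (φ ≫ pullback.snd sR sS) (ψ ≫ sR) sS := by
    refine IsPullback.of_isLimit' ⟨hB _ _⟩ (PullbackCone.IsLimit.mk _ L ?_ ?_ ?_)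
    · intro s
      apply pullback.hom_ext
      · rw [Category.assoc, Φf, Lff]
      · rw [Category.assoc, Φs, Lsf]
    · intro s
      rw [φs, Lfs]
    · intro s t h₁ h₂
      rw [φs] at h₂
      refine pullback.hom_ext (pullback.hom_ext ?_ ?_) (pullback.hom_ext ?_ ?_) <;>
        rw [Category.assoc, Category.assoc]
      · rw [Lff, ← h₁, Category.assoc, Φf]
      · rw [Lfs, h₂]
      · rw [Lsf, ← h₁, Category.assoc, Φs]
      · rw [← pullback.condition (f := pullback.snd sP sS) (g := pullback.snd sQ sS), Lfs, h₂]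
  have hsq : IsPullback Φ φ ψ (pullback.fst sR sS) :=
    IsPullback.of_bot hbig φf.symm (IsPullback.of_hasPullback _ _)
  exact MorphismProperty.of_isPullback (P := W) hsq hψ

theorem exists_mult (S : Scheme.{u}) :
    ∃ φ : pullback (CohB1.ProjSpaceOver.toBase 1 S) (CohB1.ProjSpaceOver.toBase m S) ⟶
        CohB1.ProjSpaceOver (m + 1) S,
      (IsFinite φ ∧ Surjective φ) ∧ φ ≫ CohB1.ProjSpaceOver.toBase (m + 1) S =
        pullback.fst (CohB1.ProjSpaceOver.toBase 1 S) (CohB1.ProjSpaceOver.toBase m S) ≫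
          CohB1.ProjSpaceOver.toBase 1 S :=
  exists_baseChange (W := @IsFinite ⊓ @Surjective) (fun f g ↦ specULiftZIsTerminal.hom_ext f g) (str.{u} 1) (str.{u} m)
    (str.{u} (m + 1)) (specULiftZIsTerminal.from S) (mult m) ⟨isFinite_mult m, surjective_mult m⟩

/-- `ℙ⁰` is the base. -/
theorem isIso_toBase_zero (S : Scheme.{u}) : IsIso (CohB1.ProjSpaceOver.toBase 0 S) := by
  have hb : Function.Bijective (chartBase (n := 0) (R := Z.{u}) 0) := by
    refine Function.bijective_iff_has_inverse.mpr ⟨evalAway (RingHom.id Z.{u}) (fun _ => 1) (MvPolynomial.X 0)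
      (isUnit_eval_X isUnit_one), fun x => RingHom.congr_fun (ProjUniv.evalAway_chartBase (RingHom.id Z.{u})
        (fun _ => 1) 0 (isUnit_eval_X isUnit_one)) x, fun x => ?_⟩
    have hu : IsUnit (MvPolynomial.eval₂Hom (chartBase (R := Z.{u}) (n := 0) 0) (coord 0) (MvPolynomial.X 0)) :=
      isUnit_eval_X (by rw [coord_self]; exact isUnit_one)
    have := RingHom.congr_fun (comp_evalAway (RingHom.id Z.{u}) (fun _ => 1) (MvPolynomial.X 0)
      (isUnit_eval_X isUnit_one) (chartBase (n := 0) (R := Z.{u}) 0)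
      (isUnit_eval_X (by rw [map_one]; exact isUnit_one))) x
    refine this.trans ?_
    refine Eq.trans (RingHom.congr_fun (evalAway_congr ?_ ?_) x)
      (RingHom.congr_fun (evalAway_coord (R := Z.{u}) (n := 0) 0 hu) x)
    · exact RingHom.comp_id _
    · funext k
      rw [Fin.eq_zero k, coord_self]
      exact map_one _
  have h1 : IsIso (str.{u} 0) := by
    have : IsIso (ι.{u} 0 0) := by
      have hT : (ι.{u} 0 0).opensRange = ⊤ := by
        rw [Proj.opensRange_awayι, ← iSup_D.{u} 0]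
        exact le_antisymm (le_iSup (fun c => Proj.basicOpen (CohB1.polyGrading 0 Z.{u}) (MvPolynomial.X c)) 0)
          (iSup_le fun c => by rw [Fin.eq_zero c])
      have : Surjective (ι.{u} 0 0) := ⟨fun x => (hT.ge (trivial : x ∈ ⊤) : x ∈ (ι.{u} 0 0).opensRange)⟩
      exact isIso_iff_isOpenImmersion_and_epi_base _ |>.mpr
        ⟨inferInstance, (TopCat.epi_iff_surjective _).mpr (ι.{u} 0 0).surjective⟩
    have h2 : ι.{u} 0 0 ≫ str.{u} 0 = Spec.map (CommRingCat.ofHom (chartBase 0)) := by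
      have := ProjUniv.point_toSpec (R := Z.{u}) (chartBase (n := 0) (R := Z.{u}) 0) (coord 0) 0
        (by rw [coord_self]; exact isUnit_one)
      refine Eq.trans ?_ this
      refine congrArg (· ≫ str.{u} 0) ?_
      rw [point, evalAway_coord, CommRingCat.ofHom_id, Spec.map_id, Category.id_comp]
    have : IsIso (CommRingCat.ofHom (chartBase (n := 0) (R := Z.{u}) 0)) :=
      (ConcreteCategory.isIso_iff_bijective _).mpr hb
    have : IsIso (ι.{u} 0 0 ≫ str.{u} 0) := h2 ▸ inferInstance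
    exact IsIso.of_isIso_comp_left (ι.{u} 0 0) (str.{u} 0)
  exact inferInstanceAs (IsIso (pullback.snd (str.{u} 0) (specULiftZIsTerminal.from S)))

end Groth.Agent.MultMap
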