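import Mathlib

/-!
# Multiplication of a binary linear form with a binary form, on coefficient vectors
-/

set_option autoImplicit false
universe u

namespace Groth.Agent.MultMap

variable {A B : Type u} [CommRing A] [CommRing B] {m : ℕ}

/-- Coefficients of `(a₀ + a₁ t) * (∑ bₖ tᵏ)`. -/
def mulVec (a : Fin 2 → A) (b : Fin (m + 1) → A) (c : Fin (m + 2)) : A :=
  a 0 * (Fin.snoc b 0 : Fin (m + 2) → A) c + a 1 * (Fin.cons 0 b : Fin (m + 2) → A) c

lemma map_snoc' (f : A →+* B) (b : Fin (m + 1) → A) (c : Fin (m + 2)) :
    f ((Fin.snoc b 0 : Fin (m + 2) → A) c) = (Fin.snoc (fun k => f (b k)) 0 : Fin (m + 2) → B) c := by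
  induction c using Fin.lastCases <;> simp

lemma map_cons' (f : A →+* B) (b : Fin (m + 1) → A) (c : Fin (m + 2)) :
    f ((Fin.cons 0 b : Fin (m + 2) → A) c) = (Fin.cons 0 (fun k => f (b k)) : Fin (m + 2) → B) c := by
  induction c using Fin.cases <;> simp

lemma map_mulVec (f : A →+* B) (a : Fin 2 → A) (b : Fin (m + 1) → A) (c : Fin (m + 2)) :
    f (mulVec a b c) = mulVec (fun k => f (a k)) (fun k => f (b k)) c := by
  simp [mulVec, map_snoc', map_cons']

lemma mulVec_smul (s t : A) (a : Fin 2 → A) (b : Fin (m + 1) → A) (c : Fin (m + 2)) :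
    mulVec (fun k => s * a k) (fun k => t * b k) c = s * t * mulVec a b c := by
  have h1 : (Fin.snoc (fun k => t * b k) 0 : Fin (m + 2) → A) c = t * (Fin.snoc b 0 : Fin (m + 2) → A) c := by
    induction c using Fin.lastCases <;> simp
  have h2 : (Fin.cons 0 (fun k => t * b k) : Fin (m + 2) → A) c = t * (Fin.cons 0 b : Fin (m + 2) → A) c := by
    induction c using Fin.cases <;> simp
  simp only [mulVec, h1, h2]
  ring

/-- Over a domain the product of two nonzero forms is nonzero. -/
lemma exists_mulVec_ne_zero [IsDomain A] (a : Fin 2 → A) (b : Fin (m + 1) → A) {i : Fin 2} (ha : a i ≠ 0)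
    {j : Fin (m + 1)} (hb : b j ≠ 0) : ∃ c, mulVec a b c ≠ 0 := by
  by_contra! h
  by_cases h1 : a 1 = 0
  · have h0 : a 0 ≠ 0 := by
      fin_cases i
      · exact ha
      · exact absurd h1 ha
    have := h j.castSucc
    simp [mulVec, h1, h0, hb] at this
  · refine hb (?_ : b j = 0)
    induction j using Fin.reverseInduction with
    | last =>
      have := h (Fin.last (m + 1))
      rw [← Fin.succ_last] at this
      simpa [mulVec, h1, Fin.succ_last] using this
    | cast k ih =>
      by_cases hk : b k.succ = 0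
      · have := h k.castSucc.succ
        rw [mulVec, Fin.cons_succ, ← Fin.castSucc_succ, Fin.snoc_castSucc, hk] at this
        simpa [h1] using this
      · exact absurd (ih hk) hk

/-- Over an algebraically closed field every form has a linear factor. -/
lemma exists_mulVec_eq (K : Type u) [Field K] [IsAlgClosed K] (v : Fin (m + 2) → K) :
    ∃ (a : Fin 2 → K) (b : Fin (m + 1) → K), (∃ i, a i ≠ 0) ∧ ∀ c, mulVec a b c = v c := by
  classical
  by_cases hlast : v (Fin.last (m + 1)) = 0
  · refine ⟨![1, 0], fun k => v k.castSucc, ⟨0, by simp⟩, fun c => ?_⟩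
    induction c using Fin.lastCases with
    | last => simp [mulVec, hlast]
    | cast k => simp [mulVec]
  · let P : Polynomial K := ∑ c : Fin (m + 2), Polynomial.monomial (c : ℕ) (v c)
    have hcoef : ∀ c : Fin (m + 2), P.coeff c = v c := fun c => by
      simp [P, Polynomial.finset_sum_coeff, Polynomial.coeff_monomial, Fin.val_inj]
    have hdeg : P.natDegree ≤ m + 1 := by
      refine Polynomial.natDegree_sum_le_of_forall_le _ _ fun c _ => ?_
      exact (Polynomial.natDegree_monomial_le _).trans (Nat.lt_succ_iff.mp c.isLt)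
    have hP0 : P.coeff (m + 1) ≠ 0 := by
      have := hcoef (Fin.last (m + 1))
      rw [Fin.val_last] at this
      rw [this]; exact hlast
    have hne : P.degree ≠ 0 := fun h0 => hP0 (by
      rw [Polynomial.eq_C_of_degree_eq_zero h0]; simp)
    obtain ⟨r, hr⟩ := IsAlgClosed.exists_root P hne
    obtain ⟨Q, hQ⟩ := Polynomial.dvd_iff_isRoot.mpr hr
    have hQtop : Q.coeff (m + 1) = 0 := by
      refine Polynomial.coeff_eq_zero_of_natDegree_lt ?_
      by_cases hQ0 : Q = 0
      · simp [hQ0]
      · rw [hQ, Polynomial.natDegree_mul (Polynomial.X_sub_C_ne_zero r) hQ0,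
          Polynomial.natDegree_X_sub_C] at hdeg
        omega
    refine ⟨![-r, 1], fun k => Q.coeff k, ⟨1, by simp⟩, fun c => ?_⟩
    rw [← hcoef c, hQ, sub_mul, Polynomial.coeff_sub, Polynomial.coeff_C_mul]
    induction c using Fin.cases with
    | zero =>
      rw [show (0 : Fin (m + 2)) = (0 : Fin (m + 1)).castSucc from rfl, mulVec, Fin.snoc_castSucc]
      simp
    | succ k =>
      rw [Fin.val_succ, Polynomial.coeff_X_mul]
      induction k using Fin.lastCases with
      | last =>
        simp only [mulVec, Fin.cons_succ]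
        rw [Fin.succ_last, Fin.snoc_last]
        simp [hQtop]
      | cast l =>
        simp only [mulVec, Fin.cons_succ]
        rw [← Fin.castSucc_succ, Fin.snoc_castSucc]
        simp
        ring

end Groth.Agent.MultMap
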