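import Groth.Agent.ProjPoint.Segre
import Groth.Agent.ProjUniv.Chart
import Groth.Agent.MultMap.Vec

/-!
# The finite surjective multiplication map `ℙ¹ × ℙᵐ ⟶ ℙᵐ⁺¹`
-/

set_option autoImplicit false
universe u
open CategoryTheory CategoryTheory.Limits AlgebraicGeometry HomogeneousLocalization

namespace Groth.Agent.MultMap

open ProjPoint ProjPoint.Segre

variable (m : ℕ)

/-- The image vector of the multiplication map on a product chart. -/
noncomputable def F (p : Fin (1 + 1) × Fin (m + 1)) (c : Fin (m + 2)) : T.{u} 1 m p :=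
  mulVec (fun k => l 1 m p (coord p.1 k)) (fun k => r 1 m p (coord p.2 k)) c

/-- The structure map of the integers. -/
noncomputable abbrev zmap (A : Type u) [CommRing A] : Z.{u} →+* A :=
  (Int.castRingHom A).comp (ULift.ringEquiv : Z.{u} ≃+* ℤ).toRingHom

lemma exists_F_notMem (p : Fin (1 + 1) × Fin (m + 1)) (x : Spec (CommRingCat.of (T.{u} 1 m p))) :
    ∃ c, F m p c ∉ x.asIdeal := by
  obtain ⟨c, hc⟩ := exists_mulVec_ne_zero
    (fun k => Ideal.Quotient.mk x.asIdeal (l 1 m p (coord p.1 k)))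
    (fun k => Ideal.Quotient.mk x.asIdeal (r 1 m p (coord p.2 k)))
    (i := p.1) (by rw [coord_self, map_one, map_one]; exact one_ne_zero)
    (j := p.2) (by rw [coord_self, map_one, map_one]; exact one_ne_zero)
  refine ⟨c, fun h => hc ?_⟩
  rw [← map_mulVec]
  exact Ideal.Quotient.eq_zero_iff_mem.mpr h

lemma exists_specMap_away {R : Type u} [CommRing R] (f : R) (x : Spec (CommRingCat.of R)) (h : f ∉ x.asIdeal) :
    ∃ y, Spec.map (CommRingCat.ofHom (algebraMap R (Localization.Away f))) y = x :=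
  (PrimeSpectrum.localization_away_comap_range (Localization.Away f) f).ge h

/-- A piece of the refined cover. -/
noncomputable def covMap (i : (Fin (1 + 1) × Fin (m + 1)) × Fin (m + 2)) :
    Spec (CommRingCat.of (Localization.Away (F.{u} m i.1 i.2))) ⟶ PP.{u} 1 m :=
  Spec.map (CommRingCat.ofHom (algebraMap (T.{u} 1 m i.1) (Localization.Away (F m i.1 i.2)))) ≫ q 1 m i.1

lemma isOpenImmersion_away {R : Type u} [CommRing R] (f : R) :
    IsOpenImmersion (Spec.map (CommRingCat.ofHom (algebraMap R (Localization.Away f)))) :=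
  IsOpenImmersion.of_isLocalization f

instance (i : (Fin (1 + 1) × Fin (m + 1)) × Fin (m + 2)) : IsOpenImmersion (covMap.{u} m i) := by
  have := isOpenImmersion_away (F.{u} m i.1 i.2)
  delta covMap
  exact IsOpenImmersion.comp _ _

lemma exists_mem_covMap_range (z : PP.{u} 1 m) : ∃ i, z ∈ Set.range (covMap.{u} m i) := by
  obtain ⟨p, x, rfl⟩ := exists_mem_q_range 1 m z
  obtain ⟨c, hc⟩ := exists_F_notMem m p x
  obtain ⟨y, hy⟩ := exists_specMap_away (F m p c) x hc
  exact ⟨(p, c), y, congrArg (q 1 m p) hy⟩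

/-- The refined cover of `ℙ¹ × ℙᵐ`. -/
noncomputable def cov : (PP.{u} 1 m).AffineOpenCover where
  I₀ := (Fin (1 + 1) × Fin (m + 1)) × Fin (m + 2)
  X i := CommRingCat.of (Localization.Away (F m i.1 i.2))
  f i := covMap m i
  idx z := (exists_mem_covMap_range m z).choose
  covers z := (exists_mem_covMap_range m z).choose_spec

/-- The multiplication map on a piece of the cover. -/
noncomputable def piece (i : (cov.{u} m).I₀) : Spec ((cov.{u} m).X i) ⟶ P.{u} (m + 1) :=
  point (n := m + 1) (zmap (Localization.Away (F m i.1 i.2)))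
    (fun c => algebraMap (T.{u} 1 m i.1) (Localization.Away (F m i.1 i.2)) (F m i.1 c)) i.2
    (IsLocalization.Away.algebraMap_isUnit (F m i.1 i.2))

lemma compat {A : Type u} [CommRing A] (i i' : (cov.{u} m).I₀)
    (h : Localization.Away (F m i.1 i.2) →+* A) (h' : Localization.Away (F m i'.1 i'.2) →+* A)
    (e : Spec.map (CommRingCat.ofHom h) ≫ (cov.{u} m).f i = Spec.map (CommRingCat.ofHom h') ≫ (cov.{u} m).f i') :
    Spec.map (CommRingCat.ofHom h) ≫ piece m i = Spec.map (CommRingCat.ofHom h') ≫ piece m i' := by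
  let g := h.comp (algebraMap (T.{u} 1 m i.1) _)
  let g' := h'.comp (algebraMap (T.{u} 1 m i'.1) _)
  have e0 : Spec.map (CommRingCat.ofHom g) ≫ q 1 m i.1 = Spec.map (CommRingCat.ofHom g') ≫ q 1 m i'.1 := by
    simpa only [g, g', cov, covMap, CommRingCat.ofHom_comp, Spec.map_comp, Category.assoc] using e
  have e₁ : Spec.map (CommRingCat.ofHom (g.comp (l 1 m i.1))) ≫ ι 1 i.1.1 =
      Spec.map (CommRingCat.ofHom (g'.comp (l 1 m i'.1))) ≫ ι 1 i'.1.1 := by
    simpa only [Category.assoc, q_fst, ← Spec.map_comp_assoc, ← CommRingCat.ofHom_comp] using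
      congrArg (· ≫ pullback.fst _ _) e0
  have e₂ : Spec.map (CommRingCat.ofHom (g.comp (r 1 m i.1))) ≫ ι m i.1.2 =
      Spec.map (CommRingCat.ofHom (g'.comp (r 1 m i'.1))) ≫ ι m i'.1.2 := by
    simpa only [Category.assoc, q_snd, ← Spec.map_comp_assoc, ← CommRingCat.ofHom_comp] using
      congrArg (· ≫ pullback.snd _ _) e0
  obtain ⟨c, hc, hc'⟩ := exists_unit_of_eq _ _ e₁
  obtain ⟨d, hd, hd'⟩ := exists_unit_of_eq _ _ e₂
  rw [piece, piece, SpecMap_point, SpecMap_point,
    point_congr (hom_ext_Z (h'.comp (zmap _)) (h.comp (zmap _))) rfl]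
  refine (point_eq (h.comp (zmap _)) (hc.mul hd) (fun k ↦ ?_) _ _ _
    ((IsLocalization.Away.algebraMap_isUnit (F m i'.1 i'.2)).map h')).symm
  change g' (F m i'.1 k) = c * d * g (F m i.1 k)
  rw [F, F, map_mulVec, map_mulVec]
  simp only [RingHom.comp_apply] at hc' hd'
  simp only [hc', hd']
  exact mulVec_smul c d _ _ k

/-- The multiplication map over the integers. -/
noncomputable def mult : PP.{u} 1 m ⟶ P.{u} (m + 1) :=
  (cov m).openCover.glueMorphisms (fun i ↦ piece m i) fun i i' ↦ by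
    refine (pullback ((cov m).openCover.f i)
      ((cov m).openCover.f i')).affineOpenCover.openCover.hom_ext _ _ fun k ↦ ?_
    set s := (pullback ((cov m).openCover.f i)
      ((cov m).openCover.f i')).affineOpenCover.openCover.f k
    have hh : Spec.map (Spec.preimage (s ≫ pullback.fst _ _)) = s ≫ pullback.fst _ _ :=
      Spec.map_preimage _
    have hh' : Spec.map (Spec.preimage (s ≫ pullback.snd _ _)) = s ≫ pullback.snd _ _ :=
      Spec.map_preimage _
    refine (Category.assoc _ _ _).symm.trans (Eq.trans ?_ (Category.assoc _ _ _))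
    have e : s ≫ pullback.fst _ _ ≫ (cov m).openCover.f i =
        s ≫ pullback.snd _ _ ≫ (cov m).openCover.f i' := congrArg (s ≫ ·) pullback.condition
    rw [← Category.assoc, ← Category.assoc, ← hh, ← hh'] at e
    rw [← hh, ← hh']
    exact compat m i i' (Spec.preimage (s ≫ pullback.fst _ _)).hom
      (Spec.preimage (s ≫ pullback.snd _ _)).hom e

lemma cov_mult (i : (cov.{u} m).I₀) : (cov.{u} m).f i ≫ mult.{u} m = piece m i :=
  (cov m).openCover.ι_glueMorphisms _ _ i

/-- The linear form on the Segre target cutting out the preimage of a chart. -/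
noncomputable def Lform (c : Fin (m + 2)) : MvPolynomial (Fin (1 * m + 1 + m + 1)) Z.{u} :=
  (Fin.snoc (fun k => MvPolynomial.X (pairEquiv 1 m (0, k))) 0 :
      Fin (m + 2) → MvPolynomial (Fin (1 * m + 1 + m + 1)) Z.{u}) c +
    (Fin.cons 0 (fun k => MvPolynomial.X (pairEquiv 1 m (1, k))) :
      Fin (m + 2) → MvPolynomial (Fin (1 * m + 1 + m + 1)) Z.{u}) c

lemma Lform_mem (c : Fin (m + 2)) : Lform.{u} m c ∈ CohB1.polyGrading (1 * m + 1 + m) Z.{u} 1 := by
  refine add_mem ?_ ?_
  · induction c using Fin.lastCases with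
    | last => simp
    | cast k => simpa using X_mem _
  · induction c using Fin.cases with
    | zero => simp
    | succ k => simpa using X_mem _

lemma tau_Lform (p : Fin (1 + 1) × Fin (m + 1)) (c : Fin (m + 2)) :
    MvPolynomial.eval₂Hom (algebraMap Z.{u} (T.{u} 1 m p)) (w 1 m p) (Lform m c) = F m p c := by
  simp only [Lform, map_add, F, mulVec, map_snoc', map_cons', MvPolynomial.eval₂Hom_X', w_pairEquiv]
  congr 1
  · induction c using Fin.lastCases <;> simp
  · induction c using Fin.cases <;> simp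

lemma mult_preimage (c : Fin (m + 2)) :
    mult.{u} m ⁻¹ᵁ Proj.basicOpen (CohB1.polyGrading (m + 1) Z.{u}) (MvPolynomial.X c) =
      psi.{u} 1 m ⁻¹ᵁ Proj.basicOpen (CohB1.polyGrading (1 * m + 1 + m) Z.{u}) (Lform m c) := by
  ext z
  obtain ⟨i, x, rfl⟩ : ∃ i, ∃ x, (cov.{u} m).f i x = z := ⟨_, (cov.{u} m).covers z⟩
  change x ∈ ((cov.{u} m).f i ≫ mult m) ⁻¹ᵁ _ ↔ x ∈ ((cov.{u} m).f i ≫ psi 1 m) ⁻¹ᵁ _
  rw [cov_mult]
  change _ ↔ x ∈ ((Spec.map _ ≫ q 1 m i.1) ≫ psi 1 m) ⁻¹ᵁ _
  rw [Category.assoc, q_psi, g, piece, point]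
  simp only [Scheme.Hom.comp_preimage,
    Proj.awayι_preimage_basicOpen _ (X_mem _) one_pos (Lform_mem m c) one_pos]
  have h1 : evalAway (zmap (Localization.Away (F m i.1 i.2)))
      (fun c => algebraMap (T.{u} 1 m i.1) (Localization.Away (F m i.1 i.2)) (F m i.1 c))
      (MvPolynomial.X i.2) (isUnit_eval_X (IsLocalization.Away.algebraMap_isUnit (F m i.1 i.2)))
      (coord i.2 c) * algebraMap (T.{u} 1 m i.1) (Localization.Away (F m i.1 i.2)) (F m i.1 i.2) =
      algebraMap (T.{u} 1 m i.1) (Localization.Away (F m i.1 i.2)) (F m i.1 c) := by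
    have := evalAway_mk (zmap (Localization.Away (F m i.1 i.2)))
      (fun c => algebraMap (T.{u} 1 m i.1) (Localization.Away (F m i.1 i.2)) (F m i.1 c))
      (isUnit_eval_X (IsLocalization.Away.algebraMap_isUnit (F m i.1 i.2))) (X_mem i.2) 1
      (MvPolynomial.X c) (by simpa using X_mem c)
    simpa [coord] using this
  have h2 : tau.{u} 1 m i.1 (Away.isLocalizationElem (X_mem (pairEquiv 1 m i.1)) (Lform_mem m c)) = F m i.1 c := by
    have := evalAway_mk (algebraMap Z.{u} (T.{u} 1 m i.1)) (w 1 m i.1)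
      (isUnit_eval_X (i := pairEquiv 1 m i.1) (by rw [w_self]; exact isUnit_one))
      (X_mem (pairEquiv 1 m i.1)) 1 (Lform m c ^ 1) (by simpa using Lform_mem m c)
    simpa [tau, Away.isLocalizationElem, w_self, tau_Lform] using this
  erw [Scheme.Hom.comp_preimage, awayι_preimage_basicOpen_X]
  change evalAway (zmap (Localization.Away (F m i.1 i.2)))
      (fun c => algebraMap (T.{u} 1 m i.1) (Localization.Away (F m i.1 i.2)) (F m i.1 c))
      (MvPolynomial.X i.2) (isUnit_eval_X (IsLocalization.Away.algebraMap_isUnit (F m i.1 i.2)))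
      (coord i.2 c) ∉ x.asIdeal ↔
    algebraMap (T.{u} 1 m i.1) (Localization.Away (F m i.1 i.2))
      (tau.{u} 1 m i.1 (Away.isLocalizationElem (X_mem (pairEquiv 1 m i.1)) (Lform_mem m c))) ∉ x.asIdeal
  rw [h2, ← h1]
  exact not_congr (Ideal.mul_unit_mem_iff_mem (α := Localization.Away (F m i.1 i.2)) x.asIdeal
    (IsLocalization.Away.algebraMap_isUnit (F m i.1 i.2))).symm

end Groth.Agent.MultMap
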